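import Groth.Agent.Depth.CM
import Mathlib.RingTheory.Ideal.KrullsHeightTheorem
import Mathlib.RingTheory.KrullDimension.Zero

/-!
# Systems of parameters of Cohen–Macaulay modules are regular sequences
-/

universe u

open RingTheory.Sequence IsLocalRing
open scoped Pointwise

namespace Groth.Agent.CMSeq

variable {R : Type u} [CommRing R] [IsLocalRing R] [IsNoetherianRing R]

theorem ringKrullDim_quotient_le_length {P : Ideal R} [P.IsPrime] (xs : List R)
    (h : maximalIdeal R ≤ (P ⊔ Ideal.ofList xs).radical) (hxs : Ideal.ofList xs ≤ maximalIdeal R) :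
    ringKrullDim (R ⧸ P) ≤ (xs.length : WithBot ℕ∞) := by
  classical
  let q := Ideal.Quotient.mk P
  haveI : IsLocalRing (R ⧸ P) :=
    Groth.Agent.RegLoc.isLocalRing_quotient (le_maximalIdeal (Ideal.IsPrime.ne_top ‹_›))
  let s : Finset (R ⧸ P) := (xs.map q).toFinset
  have hspan : Ideal.span (s : Set (R ⧸ P)) = (Ideal.ofList xs).map q := by
    rw [Ideal.map_ofList, List.coe_toFinset]
  have hmax : maximalIdeal (R ⧸ P) = (maximalIdeal R).map q :=
    (IsLocalRing.map_maximalIdeal_of_surjective q Ideal.Quotient.mk_surjective).symm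
  have hs : (s : Set (R ⧸ P)) ⊆ (Ring.jacobson (R ⧸ P) : Set (R ⧸ P)) := by
    intro z hz
    have hz' : z ∈ Ideal.span (s : Set (R ⧸ P)) := Ideal.subset_span hz
    rw [hspan] at hz'
    have hj : Ring.jacobson (R ⧸ P) = maximalIdeal (R ⧸ P) :=
      IsLocalRing.ringJacobson_eq_maximalIdeal (R := R ⧸ P)
    rw [SetLike.mem_coe, hj, hmax]
    exact Ideal.map_mono hxs hz'
  refine (ringKrullDim_le_ringKrullDim_quotient_add_card s hs).trans ?_
  haveI : Ring.KrullDimLE 0 ((R ⧸ P) ⧸ Ideal.span (s : Set (R ⧸ P))) := by
    refine Ring.KrullDimLE.mk₀ fun Q hQ => ?_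
    let p := Ideal.Quotient.mk (Ideal.span (s : Set (R ⧸ P)))
    let f := p.comp q
    have hfs : Function.Surjective f := Ideal.Quotient.mk_surjective.comp Ideal.Quotient.mk_surjective
    have hc : (Q.comap f).IsPrime := Ideal.comap_isPrime _ _
    have hle : P ⊔ Ideal.ofList xs ≤ Q.comap f := by
      refine sup_le (fun z hz => ?_) (fun z hz => ?_)
      · rw [Ideal.mem_comap, RingHom.comp_apply, Ideal.Quotient.eq_zero_iff_mem.mpr hz, map_zero]
        exact Q.zero_mem
      · rw [Ideal.mem_comap, RingHom.comp_apply,
          Ideal.Quotient.eq_zero_iff_mem.mpr (hspan ▸ Ideal.mem_map_of_mem q hz)]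
        exact Q.zero_mem
    have heq : Q.comap f = maximalIdeal R :=
      le_antisymm (le_maximalIdeal hc.ne_top) (h.trans ((Ideal.radical_mono hle).trans hc.radical.le))
    haveI : (Q.comap f).IsMaximal := heq ▸ inferInstance
    rw [← Ideal.map_comap_of_surjective f hfs Q]
    refine (Ideal.map_eq_top_or_isMaximal_of_surjective f hfs this).resolve_left fun htop => ?_
    exact hQ.ne_top (by rw [← Ideal.map_comap_of_surjective f hfs Q, htop])
  have hcard : (s.card : WithBot ℕ∞) ≤ xs.length := by
    exact_mod_cast (List.toFinset_card_le _).trans_eq (List.length_map q)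
  calc _ ≤ (0 : WithBot ℕ∞) + s.card := add_le_add_left (Ring.krullDimLE_iff.mp inferInstance) _
    _ ≤ _ := by rw [zero_add]; exact hcard

/-- If `M` is Cohen–Macaulay of dimension at least the length of `xs`, and `xs` generates the maximal
ideal up to radical modulo the annihilator of `M`, then `xs` is a weakly regular sequence. -/
theorem isWeaklyRegular_of_radical (xs : List R) :
    ∀ (M : Type u) [AddCommGroup M] [Module R M] [Module.Finite R M],
      LocCoh.IsCohenMacaulayModule R M → Ideal.ofList xs ≤ maximalIdeal R →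
      maximalIdeal R ≤ (Module.annihilator R M ⊔ Ideal.ofList xs).radical →
      (xs.length : WithBot ℕ∞) ≤ Module.supportDim R M → IsWeaklyRegular M xs := by
  induction xs with
  | nil => exact fun M _ _ _ _ _ _ _ => IsWeaklyRegular.nil R M
  | cons x xs ih =>
    intro M _ _ _ hCM hle hrad hlen
    rw [Ideal.ofList_cons] at hle hrad
    have hx : x ∈ maximalIdeal R := hle (Submodule.mem_sup_left (Ideal.mem_span_singleton_self x))
    have hxs : Ideal.ofList xs ≤ maximalIdeal R := le_sup_right.trans hle
    rw [List.length_cons] at hlen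
    push_cast at hlen
    have hreg : IsSMulRegular M x := by
      intro a b hab
      rw [← sub_eq_zero]
      by_contra hne
      obtain ⟨P, hP, hxP⟩ : ∃ P ∈ associatedPrimes R M, x ∈ P := by
        have : x ∈ ⋃ p ∈ associatedPrimes R M, (p : Set R) := by
          rw [biUnion_associatedPrimes_eq_zero_divisors]
          exact ⟨a - b, hne, by rw [smul_sub]; exact sub_eq_zero.mpr hab⟩
        simpa using this
      haveI := hP.1
      have h1 := ringKrullDim_quotient_le_length (P := P) xs (hrad.trans (Ideal.radical_mono ?_)) hxs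
      · rw [Depth.ringKrullDim_quotient_associatedPrime hCM hP] at h1
        have h2 : ((xs.length + 1 : ℕ) : WithBot ℕ∞) ≤ (xs.length : ℕ) := by
          push_cast; exact hlen.trans h1
        exact absurd (Nat.cast_le.mp h2) (by omega)
      · refine sup_le ((Depth.annihilator_le_associatedPrime hP).trans le_sup_left) (sup_le ?_ le_sup_right)
        rw [Ideal.span_le, Set.singleton_subset_iff]
        exact Submodule.mem_sup_left hxP
    rw [isWeaklyRegular_cons_iff]
    refine ⟨hreg, ih (QuotSMulTop x M) ((Depth.isCohenMacaulayModule_quotSMulTop_iff hx hreg).mpr hCM) hxs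
      (hrad.trans (Ideal.radical_mono ?_)) ?_⟩
    · refine sup_le ?_ (sup_le ?_ le_sup_right)
      · intro r hr
        refine Submodule.mem_sup_left (Module.mem_annihilator.mpr fun m => ?_)
        obtain ⟨m, rfl⟩ := Submodule.Quotient.mk_surjective _ m
        rw [← Submodule.Quotient.mk_smul, Module.mem_annihilator.mp hr, Submodule.Quotient.mk_zero]
      · rw [Ideal.span_le, Set.singleton_subset_iff]
        refine Submodule.mem_sup_left (Module.mem_annihilator.mpr fun m => ?_)
        obtain ⟨m, rfl⟩ := Submodule.Quotient.mk_surjective _ m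
        rw [← Submodule.Quotient.mk_smul, Submodule.Quotient.mk_eq_zero]
        exact Submodule.smul_mem_pointwise_smul m x ⊤ trivial
    · rw [← Module.supportDim_quotSMulTop_succ_eq_supportDim hreg hx] at hlen
      generalize Module.supportDim R (QuotSMulTop x M) = d at hlen ⊢
      induction d with
      | bot =>
        rw [WithBot.bot_add, le_bot_iff] at hlen
        exact absurd hlen (by exact_mod_cast WithBot.coe_ne_bot (a := ((xs.length + 1 : ℕ) : ℕ∞)))
      | coe a =>
        have hlen' : ((xs.length : ℕ∞) + 1) ≤ a + 1 := by exact_mod_cast hlen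
        exact WithBot.coe_le_coe.mpr ((ENat.add_le_add_iff_right ENat.one_ne_top).mp hlen')

end Groth.Agent.CMSeq
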